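import Mathlib
import Groth.Agent.Lib.Helper2.CurveNormC.Main
import Groth.Agent.Lib.Helper2.NormDVR.Main
import Groth.Agent.Lib.Helper1.FinCurve2
import Groth.Agent.Lib.Helper1.GV1

/-!
# Projective completion of a reduced curve with regular boundary (S1626) (helper2)
-/

set_option autoImplicit false
set_option backward.isDefEq.respectTransparency.types false
set_option synthInstance.maxHeartbeats 400000
set_option maxHeartbeats 4000000
set_option linter.style.haveILetI false
set_option linter.unusedSectionVars false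
set_option linter.unusedVariables false

universe u
open CategoryTheory CategoryTheory.Limits AlgebraicGeometry TopologicalSpace

namespace Groth.Agent.Helper2.CurveDVRC

/-- A proper scheme of dimension at most one over a field is projective. -/
theorem exists_closedImmersion_of_proper (k : Type u) [Field k] (Y : Scheme.{u})
    (s : Y ⟶ Spec (CommRingCat.of k)) [IsProper s] (hdim : topologicalKrullDim Y ≤ 1) :
    ∃ (d : ℕ) (c : Y ⟶ CohB1.ProjSpace d k), IsClosedImmersion c ∧
      c ≫ CohB1.ProjSpace.toSpec d k = s := by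
  letI : Y.Over (Spec (CommRingCat.of k)) := ⟨s⟩
  have hs : (Y ↘ Spec (CommRingCat.of k)) = s := rfl
  haveI : IsSeparated (Y ↘ Spec (CommRingCat.of k)) := by rw [hs]; infer_instance
  haveI : LocallyOfFiniteType (Y ↘ Spec (CommRingCat.of k)) := by rw [hs]; infer_instance
  haveI : QuasiCompact (Y ↘ Spec (CommRingCat.of k)) := by rw [hs]; infer_instance
  obtain ⟨d, Y', c, j, hc, hj, hjc, hjd, -, -, -⟩ :=
    Groth.Agent.Helper1.CurveQP.exists_completion k Y hdim
  haveI := hc
  haveI := hj
  haveI : IsProper (j ≫ (c ≫ CohB1.ProjSpace.toSpec d k)) := by rw [hjc, hs]; infer_instance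
  haveI : IsProper j := IsProper.of_comp j (c ≫ CohB1.ProjSpace.toSpec d k)
  have hsurj : Function.Surjective j.base := by
    have hcl : IsClosed (Set.range j.base) := j.isClosedMap.isClosed_range
    have : Set.range j.base = Set.univ := by rw [← hcl.closure_eq]; exact hjd.closure_eq
    exact Set.range_eq_univ.mp this
  haveI : Surjective j := ⟨hsurj⟩
  haveI : IsIso j := (isIso_iff_isOpenImmersion_and_surjective _).2 ⟨inferInstance, inferInstance⟩
  exact ⟨d, j ≫ c, inferInstance, by rw [Category.assoc, hjc, hs]⟩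

/-- **S1626** -/
theorem main (k : Type u) [Field k] (X : Scheme.{u}) [X.Over (Spec (CommRingCat.of k))]
    [IsReduced X] [IsSeparated (X ↘ (Spec (CommRingCat.of k)))]
    [LocallyOfFiniteType (X ↘ (Spec (CommRingCat.of k)))]
    [QuasiCompact (X ↘ (Spec (CommRingCat.of k)))] (hdim : topologicalKrullDim X ≤ 1) :
    ∃ (d : ℕ) (Y : Scheme.{u}) (c : Y ⟶ CohB1.ProjSpace d k) (j : X ⟶ Y),
      IsClosedImmersion c ∧ IsOpenImmersion j ∧
      j ≫ c ≫ CohB1.ProjSpace.toSpec d k = X ↘ (Spec (CommRingCat.of k)) ∧
      Dense (Set.range j.base) ∧ IsSchemeTheoreticallyDominant j ∧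
      (Set.range j.base)ᶜ.Finite ∧ ∀ y ∈ (Set.range j.base)ᶜ, IsClosed ({y} : Set Y) ∧
        ∃ _ : IsDomain (Y.presheaf.stalk y), IsDiscreteValuationRing (Y.presheaf.stalk y) := by
  obtain ⟨d0, Y0, c0, j0, hc0, hj0, hjc0, hjd0, -, -, -⟩ :=
    Groth.Agent.Helper1.CurveQP.exists_completion k X hdim
  haveI := hc0
  haveI := hj0
  letI : Y0.Over (Spec (CommRingCat.of k)) := ⟨c0 ≫ CohB1.ProjSpace.toSpec d0 k⟩
  have hYs : (Y0 ↘ Spec (CommRingCat.of k)) = c0 ≫ CohB1.ProjSpace.toSpec d0 k := rfl
  haveI : j0.IsOver (Spec (CommRingCat.of k)) := ⟨hjc0⟩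
  haveI hYp : IsProper (Y0 ↘ Spec (CommRingCat.of k)) := by
    rw [hYs]; infer_instance
  haveI : QuasiCompact j0 := by
    have : QuasiCompact (j0 ≫ (Y0 ↘ Spec (CommRingCat.of k))) := by
      rw [hYs, hjc0]; infer_instance
    exact MorphismProperty.of_postcomp (W := @QuasiCompact) (W' := @QuasiSeparated) j0
      (Y0 ↘ Spec (CommRingCat.of k)) inferInstance this
  haveI : IsFinite j0.fromNormalization := Groth.Agent.Lib.Helper4.Nagata3.S7616_main k Y0 X j0
  let s : j0.normalization ⟶ Spec (CommRingCat.of k) :=
    j0.fromNormalization ≫ (Y0 ↘ Spec (CommRingCat.of k))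
  haveI hsp : IsProper s := by
    show IsProper (j0.fromNormalization ≫ (Y0 ↘ Spec (CommRingCat.of k)))
    infer_instance
  have hdense : Dense (Set.range j0.toNormalization.base) :=
    (inferInstance : IsDominant j0.toNormalization).1
  haveI : IsNoetherian j0.normalization :=
    Groth.Agent.Helper1.VB5.isNoetherian_of_proper k s
  have hdimU : topologicalKrullDim ↥((j0.toNormalization.opensRange : j0.normalization.Opens) :
      Set j0.normalization) ≤ 1 :=
    (Groth.Agent.Helper1.CurveQP.dim_range_le j0.toNormalization).trans hdim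
  have hdimY : topologicalKrullDim j0.normalization ≤ 1 :=
    Groth.Agent.Helper1.CurveQP.dim_le_one_of_dense_open k s j0.toNormalization.opensRange
      hdense hdimU
  obtain ⟨d, c, hc, hcs⟩ := exists_closedImmersion_of_proper k j0.normalization s hdimY
  have hcl : ∀ y ∈ (Set.range j0.toNormalization.base)ᶜ,
      IsClosed ({y} : Set j0.normalization) := fun y hy =>
    Groth.Agent.Helper1.FinCurve.isClosed_singleton_of_notMem_dense_of_finiteType k s
      j0.toNormalization.opensRange hdense hdimU y hy
  refine ⟨d, j0.normalization, c, j0.toNormalization, hc, inferInstance, ?_, hdense, ?_, ?_, ?_⟩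
  · rw [hcs]
    show j0.toNormalization ≫ j0.fromNormalization ≫ (Y0 ↘ Spec (CommRingCat.of k)) = _
    rw [Scheme.Hom.toNormalization_fromNormalization_assoc, hYs, hjc0]
  · exact IsSchemeTheoreticallyDominant.of_isDominant _
  · exact Groth.Agent.Helper1.GV1.finite_of_forall_isClosed_singleton _
      j0.toNormalization.isOpenEmbedding.isOpen_range.isClosed_compl hcl
  · intro y hy
    refine ⟨hcl y hy, ?_⟩
    have hNag : ∀ U : Y0.affineOpens, CAlg.IsNagata Γ(Y0, U) := by
      intro U
      obtain ⟨algk, hft⟩ := Groth.Agent.Lib.Helper4.Japanese2.finiteType_sections_over_field k Y0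
        (Y0 ↘ Spec (CommRingCat.of k)) U.1 U.2
      letI := algk
      haveI := hft
      exact Groth.Agent.Lib.Helper4.Nagata3.isNagata_of_finiteType_field k Γ(Y0, U)
    haveI : LocallyOfFiniteType j0 := inferInstance
    have hdimy : ringKrullDim (j0.normalization.presheaf.stalk y) = 1 := by
      refine le_antisymm ?_ ?_
      · exact (Groth.Agent.Lib.Helper4.BirationalNormal1.ringKrullDim_stalk_le_topologicalKrullDim
          _ y).trans hdimY
      · refine Groth.Agent.Helper2.CurveNormC.one_le_ringKrullDim_stalk _ y fun hgen => hy ?_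
        exact Groth.Agent.Helper1.CurveQP.mem_of_dense_of_generic
          (Set.range j0.toNormalization.base) j0.toNormalization.isOpenEmbedding.isOpen_range
          hdense y hgen
    exact Groth.Agent.Helper2.NormDVR.S9676_main j0 hNag y hdimy hy

end Groth.Agent.Helper2.CurveDVRC
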