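import Mathlib
import Groth.Agent.Lib.Helper2.CurveDVRC.Main
import Groth.Agent.Lib.Helper4.RationalExt1

/-!
# Extending a morphism from a curve to a proper variety over a projective completion (S6563)
(helper2)
-/

set_option autoImplicit false
set_option backward.isDefEq.respectTransparency.types false
set_option synthInstance.maxHeartbeats 400000
set_option maxHeartbeats 4000000
set_option linter.style.haveILetI false
set_option linter.unusedSectionVars false
set_option linter.unusedVariables false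

universe u
open CategoryTheory CategoryTheory.Limits AlgebraicGeometry TopologicalSpace

namespace Groth.Agent.Helper2.CurveDVRC

/-- **S6563** -/
theorem S6563_main (k : Type u) [Field k]
    (X Y : Scheme.{u}) [X.Over (Spec (CommRingCat.of k))] [Y.Over (Spec (CommRingCat.of k))]
    [IsIntegral X] [IsSeparated (X ↘ (Spec (CommRingCat.of k)))]
    [LocallyOfFiniteType (X ↘ (Spec (CommRingCat.of k)))]
    [QuasiCompact (X ↘ (Spec (CommRingCat.of k)))] (hdX : topologicalKrullDim X = 1)
    [IsIntegral Y] [IsProper (Y ↘ (Spec (CommRingCat.of k)))]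
    (f : X ⟶ Y) (hf : f ≫ (Y ↘ (Spec (CommRingCat.of k))) = X ↘ (Spec (CommRingCat.of k))) :
    ∃ (Xb : Scheme.{u}) (_ : Xb.Over (Spec (CommRingCat.of k))) (j : X ⟶ Xb) (g : Xb ⟶ Y),
      IsOpenImmersion j ∧ j ≫ g = f ∧
      j ≫ (Xb ↘ (Spec (CommRingCat.of k))) = X ↘ (Spec (CommRingCat.of k)) ∧
      g ≫ (Y ↘ (Spec (CommRingCat.of k))) = Xb ↘ (Spec (CommRingCat.of k)) ∧
      IsIntegral Xb ∧ topologicalKrullDim Xb = 1 ∧
      ∃ (n : ℕ) (i : Xb ⟶ CohB1.ProjSpace n k), IsClosedImmersion i ∧
        i ≫ CohB1.ProjSpace.toSpec n k = Xb ↘ (Spec (CommRingCat.of k)) := by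
  obtain ⟨d, Xb, c, j, hc, hj, hjc, hjd, hsd, hfin, hbd⟩ := main k X hdX.le
  haveI := hc
  haveI := hj
  haveI := hsd
  letI ov : Xb.Over (Spec (CommRingCat.of k)) := ⟨c ≫ CohB1.ProjSpace.toSpec d k⟩
  have hs : (Xb ↘ Spec (CommRingCat.of k)) = c ≫ CohB1.ProjSpace.toSpec d k := rfl
  haveI : IsProper (Xb ↘ Spec (CommRingCat.of k)) := by rw [hs]; infer_instance
  haveI : IsNoetherian Xb :=
    Groth.Agent.Helper1.VB5.isNoetherian_of_proper k (Xb ↘ Spec (CommRingCat.of k))
  haveI : IsReduced Xb := IsSchemeTheoreticallyDominant.isReduced j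
  haveI : IrreducibleSpace Xb := by
    have h1 : IsIrreducible (Set.range j.base) := by
      rw [← Set.image_univ]
      exact (IrreducibleSpace.isIrreducible_univ X).image _ j.continuous.continuousOn
    have h2 : IsIrreducible (closure (Set.range j.base)) := h1.closure
    rw [hjd.closure_eq] at h2
    exact { toPreirreducibleSpace := ⟨h2.2⟩
            toNonempty := Set.nonempty_iff_univ_nonempty.mpr h2.1 }
  haveI : IsIntegral Xb := isIntegral_of_irreducibleSpace_of_isReduced Xb
  -- the extension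
  have hV : Dense ((j.opensRange : Xb.Opens) : Set Xb) := hjd
  have hg0 : (j.isoOpensRange.inv ≫ f) ≫ (Y ↘ Spec (CommRingCat.of k)) =
      j.opensRange.ι ≫ (Xb ↘ Spec (CommRingCat.of k)) := by
    rw [Category.assoc, hf, ← hjc, hs, ← Category.assoc, Scheme.Hom.isoOpensRange_inv_comp]
  obtain ⟨U, hVU, g', h1, h2, h3⟩ :=
    Groth.Agent.Lib.Helper4.RationalExt1.extend_to_proper (Y ↘ Spec (CommRingCat.of k))
      (Xb ↘ Spec (CommRingCat.of k)) (Set.range j.base)ᶜ
      (fun y hy => by
        obtain ⟨_, hdom, hdvr⟩ := hbd y hy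
        exact ⟨hdom, inferInstance⟩) j.opensRange hV (j.isoOpensRange.inv ≫ f) hg0
  obtain rfl : U = ⊤ := by
    ext y
    simp only [Opens.coe_top, Set.mem_univ, iff_true, SetLike.mem_coe]
    by_cases hy : y ∈ Set.range j.base
    · exact hVU hy
    · exact h3 y hy
  have e1 : Xb.homOfLE hVU = j.opensRange.ι ≫ Xb.topIso.inv := by
    rw [← cancel_mono (⊤ : Xb.Opens).ι, Category.assoc, Scheme.toIso_inv_ι, Category.comp_id,
      Scheme.homOfLE_ι]
  refine ⟨Xb, ov, j, Xb.topIso.inv ≫ g', inferInstance, ?_, hjc, ?_, inferInstance, ?_,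
    d, c, hc, rfl⟩
  · rw [← j.isoOpensRange_hom_ι, Category.assoc, ← Category.assoc j.opensRange.ι, ← e1, h2,
      Iso.hom_inv_id_assoc]
  · rw [Category.assoc, h1, Scheme.toIso_inv_ι_assoc]
  · refine le_antisymm ?_ ?_
    · refine Groth.Agent.Helper1.CurveQP.dim_le_one_of_dense_open k
        (Xb ↘ Spec (CommRingCat.of k)) j.opensRange hjd ?_
      exact (Groth.Agent.Helper1.CurveQP.dim_range_le j).trans hdX.le
    · rw [← hdX]
      exact j.isOpenEmbedding.toIsEmbedding.toIsInducing.topologicalKrullDim_le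

end Groth.Agent.Helper2.CurveDVRC
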