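import Mathlib
import Groth.Agent.Lib.Helper2.CurveDVRC.Extend
import Groth.Agent.Lib.Helper8.CotK4

/-!
# Smooth projective completion of a smooth curve over an algebraically closed field (S19463)
(helper2)
-/

set_option autoImplicit false
set_option backward.isDefEq.respectTransparency.types false
set_option synthInstance.maxHeartbeats 400000
set_option maxHeartbeats 4000000
set_option linter.style.haveILetI false
set_option linter.unusedSectionVars false
set_option linter.unusedVariables false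
set_option linter.unusedSimpArgs false
set_option linter.unnecessarySimpa false

universe u
open CategoryTheory CategoryTheory.Limits AlgebraicGeometry TopologicalSpace

namespace Groth.Agent.Helper2.CurveDVRC

/-- Over an algebraically closed field, a locally finite type scheme is smooth at every point
whose local ring is regular. -/
theorem formallySmooth_stalkMap_of_regular (k : Type u) [Field k] [IsAlgClosed k]
    {Y : Scheme.{u}} (s : Y ⟶ Spec (CommRingCat.of k)) [LocallyOfFiniteType s] (y : Y)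
    [IsRegularLocalRing (Y.presheaf.stalk y)] :
    (s.stalkMap y).hom.FormallySmooth := by
  obtain ⟨V, hV, hyV, -⟩ :=
    exists_isAffineOpen_mem_and_subset (U := (⊤ : Y.Opens)) (x := y) trivial
  have hU : IsAffineOpen (⊤ : (Spec (CommRingCat.of k)).Opens) := isAffineOpen_top _
  have e : V ≤ s ⁻¹ᵁ ⊤ := fun _ _ => trivial
  refine (formallySmooth_stalkMap_iff ⊤ hU V hV e hyV).mpr ?_
  letI algΓ : Algebra Γ(Spec (CommRingCat.of k), ⊤) Γ(Y, V) := (s.appLE ⊤ V e).hom.toAlgebra
  letI algkΓ : Algebra k Γ(Spec (CommRingCat.of k), ⊤) :=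
    (Scheme.ΓSpecIso (CommRingCat.of k)).inv.hom.toAlgebra
  letI algk : Algebra k Γ(Y, V) :=
    ((algebraMap Γ(Spec (CommRingCat.of k), ⊤) Γ(Y, V)).comp
      (algebraMap k Γ(Spec (CommRingCat.of k), ⊤))).toAlgebra
  haveI : IsScalarTower k Γ(Spec (CommRingCat.of k), ⊤) Γ(Y, V) :=
    IsScalarTower.of_algebraMap_eq (fun r => rfl)
  let eK : Γ(Spec (CommRingCat.of k), ⊤) ≃+* k :=
    (Scheme.ΓSpecIso (CommRingCat.of k)).commRingCatIsoToRingEquiv
  have hsurj : Function.Surjective (algebraMap k Γ(Spec (CommRingCat.of k), ⊤)) :=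
    fun a => ⟨eK a, eK.symm_apply_apply a⟩
  haveI hftΓ : Algebra.FiniteType Γ(Spec (CommRingCat.of k), ⊤) Γ(Y, V) :=
    s.finiteType_appLE hU hV e
  haveI hftkΓ : Algebra.FiniteType k Γ(Spec (CommRingCat.of k), ⊤) :=
    RingHom.FiniteType.of_surjective (Scheme.ΓSpecIso (CommRingCat.of k)).inv.hom hsurj
  haveI hftk : Algebra.FiniteType k Γ(Y, V) := Algebra.FiniteType.trans hftkΓ hftΓ
  haveI hunr : Algebra.FormallyUnramified k Γ(Spec (CommRingCat.of k), ⊤) :=
    Algebra.FormallyUnramified.of_surjective (Algebra.ofId k Γ(Spec (CommRingCat.of k), ⊤)) hsurj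
  letI algBC : Algebra Γ(Y, V) (Y.presheaf.stalk y) :=
    Y.presheaf.algebra_section_stalk (⟨y, hyV⟩ : V)
  haveI hloc : IsLocalization.AtPrime (Y.presheaf.stalk y) (hV.primeIdealOf ⟨y, hyV⟩).asIdeal :=
    hV.isLocalization_stalk ⟨y, hyV⟩
  haveI hregL : IsRegularLocalRing (Localization.AtPrime (hV.primeIdealOf ⟨y, hyV⟩).asIdeal) :=
    IsRegularLocalRing.of_ringEquiv
      (IsLocalization.algEquiv (hV.primeIdealOf ⟨y, hyV⟩).asIdeal.primeCompl
        (Y.presheaf.stalk y)
        (Localization.AtPrime (hV.primeIdealOf ⟨y, hyV⟩).asIdeal)).toRingEquiv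
  haveI hsm : Algebra.IsSmoothAt k (hV.primeIdealOf ⟨y, hyV⟩).asIdeal :=
    (Groth.Agent.Helper8.CotK.isSmoothAt_iff_regular k Γ(Y, V)
      (hV.primeIdealOf ⟨y, hyV⟩).asIdeal).mpr hregL
  haveI hst : IsScalarTower k Γ(Spec (CommRingCat.of k), ⊤)
      (Localization.AtPrime (hV.primeIdealOf ⟨y, hyV⟩).asIdeal) := by
    refine IsScalarTower.of_algebraMap_eq (fun r => ?_)
    rw [IsScalarTower.algebraMap_apply k Γ(Y, V)
        (Localization.AtPrime (hV.primeIdealOf ⟨y, hyV⟩).asIdeal),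
      IsScalarTower.algebraMap_apply Γ(Spec (CommRingCat.of k), ⊤) Γ(Y, V)
        (Localization.AtPrime (hV.primeIdealOf ⟨y, hyV⟩).asIdeal)]
    rfl
  haveI hfsk : Algebra.FormallySmooth k
      (Localization.AtPrime (hV.primeIdealOf ⟨y, hyV⟩).asIdeal) := hsm
  change Algebra.FormallySmooth Γ(Spec (CommRingCat.of k), ⊤)
    (Localization.AtPrime (hV.primeIdealOf ⟨y, hyV⟩).asIdeal)
  exact Algebra.FormallySmooth.of_restrictScalars k Γ(Spec (CommRingCat.of k), ⊤)
    (Localization.AtPrime (hV.primeIdealOf ⟨y, hyV⟩).asIdeal)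

/-- **S19463** -/
theorem S19463_main (k : Type u) [Field k] [IsAlgClosed k]
    (X : Scheme.{u}) [X.Over (Spec (CommRingCat.of k))]
    [IsIntegral X] [IsSeparated (X ↘ (Spec (CommRingCat.of k)))]
    [LocallyOfFiniteType (X ↘ (Spec (CommRingCat.of k)))]
    [QuasiCompact (X ↘ (Spec (CommRingCat.of k)))]
    [Smooth (X ↘ (Spec (CommRingCat.of k)))] (hdX : topologicalKrullDim X = 1) :
    ∃ (Y : Scheme.{u}) (_ : Y.Over (Spec (CommRingCat.of k))) (j : X ⟶ Y),
      IsOpenImmersion j ∧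
      j ≫ (Y ↘ (Spec (CommRingCat.of k))) = X ↘ (Spec (CommRingCat.of k)) ∧
      IsIntegral Y ∧ Smooth (Y ↘ (Spec (CommRingCat.of k))) ∧ topologicalKrullDim Y = 1 ∧
      ∃ (n : ℕ) (i : Y ⟶ CohB1.ProjSpace n k), IsClosedImmersion i ∧
        i ≫ CohB1.ProjSpace.toSpec n k = Y ↘ (Spec (CommRingCat.of k)) := by
  obtain ⟨d, Xb, c, j, hc, hj, hjc, hjd, hsd, hfin, hbd⟩ := main k X hdX.le
  haveI := hc
  haveI := hj
  haveI := hsd
  letI ov : Xb.Over (Spec (CommRingCat.of k)) := ⟨c ≫ CohB1.ProjSpace.toSpec d k⟩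
  have hs : (Xb ↘ Spec (CommRingCat.of k)) = c ≫ CohB1.ProjSpace.toSpec d k := rfl
  haveI : IsProper (Xb ↘ Spec (CommRingCat.of k)) := by rw [hs]; infer_instance
  haveI : IsNoetherian Xb :=
    Groth.Agent.Helper1.VB5.isNoetherian_of_proper k (Xb ↘ Spec (CommRingCat.of k))
  haveI : IsReduced Xb := IsSchemeTheoreticallyDominant.isReduced j
  haveI : IrreducibleSpace Xb := by
    have h1 : IsIrreducible (Set.range j.base) := by
      rw [← Set.image_univ]
      exact (IrreducibleSpace.isIrreducible_univ X).image _ j.continuous.continuousOn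
    have h2 : IsIrreducible (closure (Set.range j.base)) := h1.closure
    rw [hjd.closure_eq] at h2
    exact { toPreirreducibleSpace := ⟨h2.2⟩
            toNonempty := Set.nonempty_iff_univ_nonempty.mpr h2.1 }
  haveI : IsIntegral Xb := isIntegral_of_irreducibleSpace_of_isReduced Xb
  have hjs : j ≫ (Xb ↘ Spec (CommRingCat.of k)) = X ↘ Spec (CommRingCat.of k) := hjc
  haveI : LocallyOfFiniteType (Xb ↘ Spec (CommRingCat.of k)) := inferInstance
  haveI : LocallyOfFinitePresentation (Xb ↘ Spec (CommRingCat.of k)) :=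
    LocallyOfFinitePresentation.iff_locallyOfFiniteType.2 inferInstance
  have hsmooth : Smooth (Xb ↘ Spec (CommRingCat.of k)) := by
    rw [← Scheme.Hom.smoothLocus_eq_top_iff, eq_top_iff]
    rintro y -
    by_cases hy : y ∈ Set.range j.base
    · obtain ⟨x, rfl⟩ := hy
      have h1 : j ⁻¹ᵁ (Xb ↘ Spec (CommRingCat.of k)).smoothLocus =
          (j ≫ (Xb ↘ Spec (CommRingCat.of k))).smoothLocus :=
        Scheme.Hom.preimage_smoothLocus_eq j _
      haveI : Smooth (j ≫ (Xb ↘ Spec (CommRingCat.of k))) := by rw [hjs]; infer_instance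
      have h2 : (j ≫ (Xb ↘ Spec (CommRingCat.of k))).smoothLocus = ⊤ :=
        Scheme.Hom.smoothLocus_eq_top _
      have h3 : x ∈ j ⁻¹ᵁ (Xb ↘ Spec (CommRingCat.of k)).smoothLocus := by
        rw [h1, h2]; trivial
      exact h3
    · obtain ⟨_, hdom, hdvr⟩ := hbd y hy
      haveI := hdom
      haveI := hdvr
      exact formallySmooth_stalkMap_of_regular k (Xb ↘ Spec (CommRingCat.of k)) y
  refine ⟨Xb, ov, j, inferInstance, hjc, inferInstance, hsmooth, ?_, d, c, hc, rfl⟩
  refine le_antisymm ?_ ?_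
  · refine Groth.Agent.Helper1.CurveQP.dim_le_one_of_dense_open k
      (Xb ↘ Spec (CommRingCat.of k)) j.opensRange hjd ?_
    exact (Groth.Agent.Helper1.CurveQP.dim_range_le j).trans hdX.le
  · rw [← hdX]
    exact j.isOpenEmbedding.toIsEmbedding.toIsInducing.topologicalKrullDim_le

end Groth.Agent.Helper2.CurveDVRC
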