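import Mathlib
import Groth.Agent.Lib.Helper2.CurveDVRC.SmoothCompl
import Groth.Agent.Lib.Helper1.PtInv1
import Groth.Agent.Lib.Helper4.TopDim2

/-!
# The ideal of a closed point of a curve is invertible iff the curve is smooth near it (S15923)
(helper2)
-/

set_option autoImplicit false
set_option backward.isDefEq.respectTransparency.types false
set_option synthInstance.maxHeartbeats 400000
set_option maxHeartbeats 4000000
set_option linter.style.haveILetI false
set_option linter.unusedSectionVars false
set_option linter.unusedVariables false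
set_option linter.unusedSimpArgs false
set_option linter.unnecessarySimpa false

universe u
open CategoryTheory CategoryTheory.Limits AlgebraicGeometry TopologicalSpace IsLocalRing

namespace Groth.Agent.Helper2.PtSmooth

open Groth.Agent.Helper1.CurveDual

/-- a nonempty space all of whose irreducible components have dimension one has dimension one -/
theorem dim_eq_one_of_pure {T : Type u} [TopologicalSpace T] [Nonempty T]
    (hequi : ∀ Z ∈ irreducibleComponents T, topologicalKrullDim Z = 1) :
    topologicalKrullDim T = 1 := by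
  rw [Groth.Agent.Helper4.TD.topologicalKrullDim_eq_iSup_irreducibleComponents]
  apply le_antisymm
  · exact iSup₂_le fun Z hZ => (hequi Z hZ).le
  · obtain ⟨x⟩ := ‹Nonempty T›
    obtain ⟨Z, hZ, -⟩ := exists_mem_irreducibleComponents_subset_of_isIrreducible ({x} : Set T)
      isIrreducible_singleton
    exact le_iSup₂_of_le Z hZ (hequi Z hZ).ge

/-- a closed point of a scheme all of whose irreducible components have dimension one is not a
generic point -/
theorem maximalIdeal_ne_bot_of_pure (X : Scheme.{u})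
    (hequi : ∀ Z ∈ irreducibleComponents (X : Type u), topologicalKrullDim Z = 1)
    (P : X) (hP : IsClosed ({P} : Set X)) :
    IsLocalRing.maximalIdeal (X.presheaf.stalk P) ≠ ⊥ := by
  intro hbot
  have hfield : IsField (X.presheaf.stalk P) := by
    rw [IsLocalRing.isField_iff_maximalIdeal_eq]
    exact hbot
  letI := hfield.toField
  have h0 : ringKrullDim (X.presheaf.stalk P) = 0 := ringKrullDim_eq_zero_of_field _
  rw [ringKrullDim_stalk_eq_coheight] at h0
  have h1 : Order.coheight P = 0 := by exact_mod_cast h0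
  rw [Order.coheight_eq_zero] at h1
  obtain ⟨Z, hZ, hPZ⟩ := exists_mem_irreducibleComponents_subset_of_isIrreducible ({P} : Set X)
    isIrreducible_singleton
  have hZirr : IsIrreducible Z := hZ.1
  have hZcl : IsClosed Z := isClosed_of_mem_irreducibleComponents Z hZ
  obtain ⟨η, hη⟩ := QuasiSober.sober hZirr hZcl
  have h2 : η ⤳ P := by
    rw [specializes_iff_mem_closure, hη.def]
    exact hPZ rfl
  have h3 : P ≤ η := h2
  have h4 : η ≤ P := h1 h3
  have h5 : P ⤳ η := h4
  have h6 : η ∈ closure ({P} : Set X) := h5.mem_closure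
  rw [hP.closure_eq] at h6
  have h7 : η = P := h6
  have hZP : Z = {P} := by rw [← hη.def, h7, hP.closure_eq]
  subst hZP
  have h8 := hequi _ hZ
  have h10 := topologicalKrullDim_zero_of_discreteTopology ↥({P} : Set X)
  rw [h8] at h10
  exact absurd h10 (by norm_num)

/-- if a neighbourhood of the closed point `P` is smooth over `k` and `X` has dimension at most
one, the ideal sheaf of `P` is invertible -/
theorem isInvertible_ptIdeal_of_smooth_nhd (k : Type u) [Field k] (X : Scheme.{u})
    [X.Over (Spec (CommRingCat.of k))] [IsLocallyNoetherian X]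
    (hdim : topologicalKrullDim X ≤ 1) (P : X) (hP : IsClosed ({P} : Set X))
    (hne : IsLocalRing.maximalIdeal (X.presheaf.stalk P) ≠ ⊥)
    (U : X.Opens) (hPU : P ∈ U) [Smooth (U.ι ≫ (X ↘ Spec (CommRingCat.of k)))] :
    PicF.IsInvertible (ClSub.idealMod (Scheme.IdealSheafData.vanishingIdeal ⟨{P}, hP⟩)) := by
  haveI hregU : IsRegularLocalRing ((U : Scheme.{u}).presheaf.stalk ⟨P, hPU⟩) :=
    Groth.Agent.Helper2.SmoothFieldRegular.S1535_main k
      (U.ι ≫ (X ↘ Spec (CommRingCat.of k))) ⟨P, hPU⟩
  haveI : IsIso (U.ι.stalkMap ⟨P, hPU⟩) := inferInstance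
  let e : X.presheaf.stalk (U.ι ⟨P, hPU⟩) ≃+* (U : Scheme.{u}).presheaf.stalk ⟨P, hPU⟩ :=
    (asIso (U.ι.stalkMap ⟨P, hPU⟩)).commRingCatIsoToRingEquiv
  have hreg' : IsRegularLocalRing (X.presheaf.stalk (U.ι ⟨P, hPU⟩)) :=
    IsRegularLocalRing.of_ringEquiv e.symm
  haveI hreg : IsRegularLocalRing (X.presheaf.stalk P) := hreg'
  haveI : IsDomain (X.presheaf.stalk P) :=
    Groth.Agent.Lib.Helper4.RegularLocalCopy.isDomain _
  haveI : ValuationRing (X.presheaf.stalk P) :=
    Groth.Agent.Helper1.VB5.valuationRing_of_regular _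
      (Groth.Agent.Helper1.VB5.ringKrullDim_stalk_le hdim P)
  haveI : IsNoetherianRing (X.presheaf.stalk P) := inferInstance
  have hpr : (IsLocalRing.maximalIdeal (X.presheaf.stalk P)).IsPrincipal :=
    ((tfae_of_isNoetherianRing_of_isLocalRing_of_isDomain
      (R := X.presheaf.stalk P)).out 1 4).1 (inferInstance : ValuationRing (X.presheaf.stalk P))
  exact Groth.Agent.Helper1.PtInv.isInvertible_ptIdeal P hP hpr hne

/-- if the ideal sheaf of a closed point is invertible, the local ring at the point is regular -/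
theorem isRegularLocalRing_stalk_of_isInvertible_ptIdeal (X : Scheme.{u}) [IsLocallyNoetherian X]
    (P : X) (hP : IsClosed ({P} : Set X))
    (h : PicF.IsInvertible (ClSub.idealMod (Scheme.IdealSheafData.vanishingIdeal ⟨{P}, hP⟩))) :
    IsRegularLocalRing (X.presheaf.stalk P) := by
  have hc : BlowUp.IsEffCartierIdeal (Scheme.IdealSheafData.vanishingIdeal ⟨{P}, hP⟩) :=
    (Groth.Agent.S8914.result _).1 h
  obtain ⟨U, hPU, f, hf, hI⟩ := hc P
  have hm : ((ptIdeal P hP).ideal U).map (X.presheaf.germ U.1 P hPU).hom =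
      IsLocalRing.maximalIdeal (X.presheaf.stalk P) :=
    Groth.Agent.Helper1.PtInv.ptIdeal_map_germ P hP U hPU
  have hI' : (ptIdeal P hP).ideal U = Ideal.span {f} := hI
  rw [hI', Ideal.map_span, Set.image_singleton] at hm
  obtain ⟨t, ht⟩ : ∃ t, t = (X.presheaf.germ U.1 P hPU).hom f := ⟨_, rfl⟩
  rw [← ht] at hm
  have htnzd : t ∈ nonZeroDivisors (X.presheaf.stalk P) := by
    letI := TopCat.Presheaf.algebra_section_stalk X.presheaf (⟨P, hPU⟩ : U.1)
    haveI := U.2.isLocalization_stalk ⟨P, hPU⟩
    have h1 := IsLocalization.nonZeroDivisors_le_comap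
      (M := (U.2.primeIdealOf ⟨P, hPU⟩).asIdeal.primeCompl) (S := X.presheaf.stalk P) hf
    rw [ht]
    exact h1
  haveI : IsNoetherianRing (X.presheaf.stalk P) := inferInstance
  have htm : t ∈ IsLocalRing.maximalIdeal (X.presheaf.stalk P) := by
    rw [← hm]
    exact Ideal.mem_span_singleton_self t
  have ht0 : t ≠ 0 := nonZeroDivisors.ne_zero htnzd
  -- the Krull dimension is at least one
  obtain ⟨p0, hp0, hp0le⟩ := Ideal.exists_minimalPrimes_le
    (J := IsLocalRing.maximalIdeal (X.presheaf.stalk P)) (I := (⊥ : Ideal (X.presheaf.stalk P)))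
    bot_le
  haveI hp0prime : p0.IsPrime := hp0.1.1
  have htp0 : t ∉ p0 := fun h' =>
    Set.disjoint_left.1 (Ideal.disjoint_nonZeroDivisors_of_mem_minimalPrimes hp0) h' htnzd
  have hlt : (⟨p0, hp0prime⟩ : PrimeSpectrum (X.presheaf.stalk P)) <
      ⟨IsLocalRing.maximalIdeal (X.presheaf.stalk P), inferInstance⟩ := by
    refine lt_of_le_of_ne (show (⟨p0, hp0prime⟩ : PrimeSpectrum (X.presheaf.stalk P)) ≤
      ⟨IsLocalRing.maximalIdeal (X.presheaf.stalk P), inferInstance⟩ from hp0le) ?_
    intro heq
    apply htp0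
    have h2 : p0 = IsLocalRing.maximalIdeal (X.presheaf.stalk P) :=
      congrArg PrimeSpectrum.asIdeal heq
    rw [h2]
    exact htm
  have hdim1 : (1 : WithBot ℕ∞) ≤ ringKrullDim (X.presheaf.stalk P) := by
    unfold ringKrullDim
    exact Order.one_le_krullDim_iff.2 ⟨_, _, hlt⟩
  refine IsRegularLocalRing.of_spanFinrank_maximalIdeal_le _ ?_
  have h3 : (IsLocalRing.maximalIdeal (X.presheaf.stalk P)).spanFinrank = 1 := by
    rw [← hm]
    exact Submodule.spanFinrank_singleton ht0
  rw [h3]
  exact_mod_cast hdim1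

/-- **S15923** -/
theorem S15923_main (k : Type u) [Field k] [IsAlgClosed k] (X : Scheme.{u})
    [X.Over (Spec (CommRingCat.of k))] [IsProper (X ↘ (Spec (CommRingCat.of k)))]
    [IsReduced X] [ConnectedSpace X]
    (hequi : ∀ Z ∈ irreducibleComponents (X : Type u), topologicalKrullDim Z = 1)
    (P : X) (hP : IsClosed ({P} : Set X)) :
    PicF.IsInvertible (ClSub.idealMod (Scheme.IdealSheafData.vanishingIdeal ⟨{P}, hP⟩)) ↔
      ∃ U : X.Opens, P ∈ U ∧ Smooth (U.ι ≫ (X ↘ (Spec (CommRingCat.of k)))) := by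
  haveI : IsNoetherian X :=
    Groth.Agent.Helper1.VB5.isNoetherian_of_proper k (X ↘ Spec (CommRingCat.of k))
  haveI : LocallyOfFinitePresentation (X ↘ Spec (CommRingCat.of k)) :=
    LocallyOfFinitePresentation.iff_locallyOfFiniteType.2 inferInstance
  have hdim : topologicalKrullDim X = 1 := dim_eq_one_of_pure hequi
  constructor
  · intro h
    haveI := isRegularLocalRing_stalk_of_isInvertible_ptIdeal X P hP h
    have hPs : P ∈ (X ↘ Spec (CommRingCat.of k)).smoothLocus :=
      Groth.Agent.Helper2.CurveDVRC.formallySmooth_stalkMap_of_regular k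
        (X ↘ Spec (CommRingCat.of k)) P
    refine ⟨(X ↘ Spec (CommRingCat.of k)).smoothLocus, hPs, ?_⟩
    rw [← Scheme.Hom.smoothLocus_eq_top_iff, ← Scheme.Hom.preimage_smoothLocus_eq]
    ext x
    simp only [Scheme.Hom.coe_preimage, Set.mem_preimage, SetLike.mem_coe, Opens.coe_top,
      Set.mem_univ, iff_true]
    exact x.2
  · rintro ⟨U, hPU, hU⟩
    haveI := hU
    exact isInvertible_ptIdeal_of_smooth_nhd k X hdim.le P hP
      (maximalIdeal_ne_bot_of_pure X hequi P hP) U hPU

end Groth.Agent.Helper2.PtSmooth
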